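import Groth.Agent.L23.TwDesc.Section.Split

/-!
# The descent datum of a module on the base of a gerbe with a section
-/

universe u

open CategoryTheory CategoryTheory.Limits AlgebraicGeometry Opposite TopologicalSpace
open scoped TensorProduct

set_option backward.isDefEq.respectTransparency false
set_option backward.isDefEq.respectTransparency.types false
set_option linter.style.haveILetI false
set_option linter.unusedSectionVars false
set_option linter.unusedVariables false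

noncomputable section

namespace Groth.L23.TwDesc

open StMod
open Groth.L23.RelGen
open Groth.L23.RelGen.PB (fnMap_comp_apply)

variable {S : Scheme.{u}}

/-- Base change of sections read on images. -/
theorem exists_bcMap_sec {𝒳 𝒴 : AlgSt.Cat S} (π : 𝒳 ⥤ᵇ 𝒴) (F : QCoh 𝒳) {z x : 𝒳.obj}
    (hz : IsAffine (sch 𝒳 z)) (hx : IsAffine (sch 𝒳 x)) (k : z ⟶ x) (g : π.obj z ⟶ π.obj x)
    (hg : fnMap g = fnMap (π.map k)) :
    letI := (fnMap g).toAlgebra
    ∃ E : Fn (π.obj z) ⊗[Fn (π.obj x)] secMod π F x ≃+ secMod π F z,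
      ∀ r m, E (r ⊗ₜ m) = r • (show secMod π F z from F.obj.mapTop k m) := by
  haveI := hz
  haveI := hx
  letI := (fnMap g).toAlgebra
  letI := (fnMap k).toAlgebra
  obtain ⟨E, hE⟩ := exists_bcEquiv F.property.1 F.property.2 k
  obtain ⟨Θ, hΘ⟩ := exists_tensorTransport (R := Fn (π.obj x)) (R' := Fn (π.obj z)) (R₂ := Fn x) (R₂' := Fn z)
    (M := secMod π F x) (M₂ := Sec F.obj x) (cY π x) (cY_bijective π x) (cY π z) (cY_bijective π z)
    (fun r => by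
      show cY π z (fnMap g r) = fnMap k (cY π x r)
      rw [hg, cY_natural]) (AddMonoidHom.id _) Function.bijective_id (fun r m => rfl)
  exact ⟨Θ.trans E, fun r m => by
    show E (Θ (r ⊗ₜ m)) = _
    rw [hΘ, hE]
    rfl⟩

variable {X : Over S} {𝒳 : AlgSt.Cat S} (h𝒳 : FibCat.IsFibGrpd 𝒳.p) {π : 𝒳 ⥤ᵇ AlgSt.ofSch X}
  (σ : AlgSt.ofSch X ⥤ᵇ 𝒳) (e : BasedFunctor.comp σ π ≅ BasedFunctor.id (AlgSt.ofSch X))
  {A : (Over S)ᵒᵖ ⥤ GrpCat.{u}} (ι : TwSh.BandHom 𝒳 A)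
  (hπ : TwSh.IsBandedGerbe (QuotSh.J Scheme.fppfPrecoverage S) π ι)

include h𝒳 e hπ in
theorem exists_iso_section {x : 𝒳.obj} (hx : IsAffine (sch 𝒳 x)) :
    ∃ (κ : Type u) (_ : Finite κ) (y : κ → (AlgSt.ofSch X).obj) (g : ∀ l, σ.obj (y l) ⟶ x),
      (∀ l, IsAffine (sch (AlgSt.ofSch X) (y l))) ∧ Groth.L19.QCohFpqc.IsCov (fun l => bmap 𝒳 (g l)) := by
  obtain ⟨𝒵, hfin, h⟩ := exists_homLift π hπ.1.2 h𝒳 (fib_ofSch X) hx (e.inv.app (π.obj x))
  choose k hk using h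
  choose y t i hi hi' using fun l => exists_iso_map σ (fib_ofSch X) h𝒳 (k l)
  refine ⟨𝒵.ι, hfin, y, fun l => (i l).hom ≫ 𝒵.map l, fun l => ?_, ⟨fun l => ?_, fun q => ?_⟩⟩
  · haveI := bmap_iso (i l)
    haveI := 𝒵.affine l
    exact (isAffine_obj_iff σ (y l)).1 (IsAffine.of_isIso (bmap 𝒳 (i l).hom))
  · haveI := bmap_iso (i l)
    haveI := 𝒵.cov.flat l
    rw [bmap_comp]
    infer_instance
  · obtain ⟨l, w, hw⟩ := 𝒵.cov.surj q
    refine ⟨l, bmap 𝒳 (i l).inv w, ?_⟩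
    rw [← Scheme.Hom.comp_apply, ← bmap_comp, Iso.inv_hom_id_assoc]
    exact hw

/-- Values of a section as pieces. -/
def sectionPieces : Pieces.{u + 1} 𝒳 where
  fib := h𝒳
  J := {y : (AlgSt.ofSch X).obj // IsAffine (sch (AlgSt.ofSch X) y)}
  o j := σ.obj j.1
  aff j := isAffine_map_obj σ j.2
  lift z hz j t := by
    obtain ⟨y, k, i, -⟩ := exists_iso_map σ (fib_ofSch X) h𝒳 t
    haveI := bmap_iso i
    haveI := hz
    exact ⟨⟨y, (isAffine_obj_iff σ y).1 (IsAffine.of_isIso (bmap 𝒳 i.hom))⟩, ⟨i⟩⟩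
  loc x hx := by
    obtain ⟨κ, hκ, y, g, hy, hcov⟩ := exists_iso_section h𝒳 σ e ι hπ hx
    exact ⟨κ, hκ, fun l => ⟨y l, hy l⟩, g, hcov⟩

variable (χ : A ⟶ TwSh.GmPsh S) (G : QCoh (AlgSt.ofSch X))

/-- The value of the twisted restriction at a decomposed morphism. -/
def twVal {y' y : (AlgSt.ofSch X).obj} (k : y' ⟶ y) (a : A.obj (op (𝒳.p.obj (σ.obj y'))))
    (m : secMod σ G y) : secMod σ G y' :=
  (scal χ (σ.obj y') a).val • (show secMod σ G y' from G.obj.mapTop k m)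

theorem twVal_smul {y' y : (AlgSt.ofSch X).obj} (k : y' ⟶ y) (a : A.obj (op (𝒳.p.obj (σ.obj y'))))
    (r : Fn (σ.obj y)) (m : secMod σ G y) :
    twVal σ χ G k a (r • m) = fnMap (σ.map k) r • twVal σ χ G k a m := by
  unfold twVal
  rw [smul_smul, mul_comm, ← smul_smul]
  refine congrArg (fun t : secMod σ G y' => (scal χ (σ.obj y') a).val • t) ?_
  show G.obj.mapTop k (cY σ y r • (show Sec G.obj y from m)) = _
  rw [Mod.mapTop_smul]
  show fnMap k (cY σ y r) • G.obj.mapTop k m = _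
  rw [cY_natural]
  rfl

include h𝒳 e hπ in
theorem exists_twT {y' y : (AlgSt.ofSch X).obj} (β : σ.obj y' ⟶ σ.obj y) :
    ∃ T : secMod σ G y →ₛₗ[fnMap β] secMod σ G y', ∀ k a, IsSplit σ ι β k a → ∀ m, T m = twVal σ χ G k a m := by
  obtain ⟨k, a, h⟩ := exists_isSplit h𝒳 σ e ι hπ β
  refine ⟨{ toFun := twVal σ χ G k a, map_add' := fun m m' => ?_, map_smul' := fun r m => ?_ }, fun k' a' h' m => ?_⟩
  · unfold twVal
    rw [← smul_add]
    exact congrArg (fun t : secMod σ G y' => (scal χ (σ.obj y') a).val • t) (G.obj.mapTop_add k m m')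
  · rw [twVal_smul, h.fnMap_eq]
  · obtain ⟨rfl, rfl⟩ := isSplit_unique h𝒳 σ e ι hπ h h'
    rfl

/-- The twisted restriction. -/
def twT {y' y : (AlgSt.ofSch X).obj} (β : σ.obj y' ⟶ σ.obj y) : secMod σ G y →ₛₗ[fnMap β] secMod σ G y' :=
  (exists_twT h𝒳 σ e ι hπ χ G β).choose

theorem twT_eq {y' y : (AlgSt.ofSch X).obj} {β : σ.obj y' ⟶ σ.obj y} {k a} (h : IsSplit σ ι β k a)
    (m : secMod σ G y) : twT h𝒳 σ e ι hπ χ G β m = twVal σ χ G k a m :=
  (exists_twT h𝒳 σ e ι hπ χ G β).choose_spec k a h m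

theorem twT_map {y' y : (AlgSt.ofSch X).obj} (k : y' ⟶ y) (m : secMod σ G y) :
    twT h𝒳 σ e ι hπ χ G (σ.map k) m = (show secMod σ G y' from G.obj.mapTop k m) := by
  rw [twT_eq h𝒳 σ e ι hπ χ G (isSplit_map σ ι k), twVal, scal_one]
  exact one_smul _ _

theorem twT_band {y : (AlgSt.ofSch X).obj} (a : A.obj (op (𝒳.p.obj (σ.obj y)))) (m : secMod σ G y) :
    twT h𝒳 σ e ι hπ χ G (ι.hom (σ.obj y) a).hom.1 m = (scal χ (σ.obj y) a).val • m := by
  rw [twT_eq h𝒳 σ e ι hπ χ G (isSplit_band σ ι a), twVal]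
  exact congrArg (fun t : secMod σ G y => (scal χ (σ.obj y) a).val • t) (G.obj.mapTop_id y m)

theorem twT_id {y : (AlgSt.ofSch X).obj} (m : secMod σ G y) : twT h𝒳 σ e ι hπ χ G (𝟙 (σ.obj y)) m = m := by
  have h : IsSplit σ ι (𝟙 (σ.obj y)) (𝟙 y) 1 := by
    have := isSplit_band σ ι (y := y) 1
    rwa [map_one] at this
  rw [twT_eq h𝒳 σ e ι hπ χ G h, twVal, scal_one]
  exact (one_smul _ _).trans (G.obj.mapTop_id y m)

theorem twT_comp {y'' y' y : (AlgSt.ofSch X).obj} (β : σ.obj y'' ⟶ σ.obj y') (γ : σ.obj y' ⟶ σ.obj y)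
    (m : secMod σ G y) :
    twT h𝒳 σ e ι hπ χ G β (twT h𝒳 σ e ι hπ χ G γ m) = twT h𝒳 σ e ι hπ χ G (β ≫ γ) m := by
  obtain ⟨k, a, h⟩ := exists_isSplit h𝒳 σ e ι hπ β
  obtain ⟨l, b, h'⟩ := exists_isSplit h𝒳 σ e ι hπ γ
  rw [twT_eq h𝒳 σ e ι hπ χ G h, twT_eq h𝒳 σ e ι hπ χ G h', twT_eq h𝒳 σ e ι hπ χ G (isSplit_comp σ ι h h')]
  conv_lhs => rw [show twVal σ χ G l b m =
    (scal χ (σ.obj y') b).val • (show secMod σ G y' from G.obj.mapTop l m) from rfl]
  rw [twVal_smul, twVal, twVal, smul_smul, scal_mul, Units.val_mul, scal_map, mul_comm]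
  exact congrArg (fun t : secMod σ G y'' => (_ : Fn (σ.obj y'')) • t) (G.obj.mapTop_comp k l m).symm

theorem exists_bc_twT {y' y : (AlgSt.ofSch X).obj} (hy' : IsAffine (sch (AlgSt.ofSch X) y'))
    (hy : IsAffine (sch (AlgSt.ofSch X) y)) (β : σ.obj y' ⟶ σ.obj y) :
    letI := (fnMap β).toAlgebra
    ∃ E : Fn (σ.obj y') ⊗[Fn (σ.obj y)] secMod σ G y ≃+ secMod σ G y',
      ∀ r m, E (r ⊗ₜ m) = r • twT h𝒳 σ e ι hπ χ G β m := by
  obtain ⟨k, a, h⟩ := exists_isSplit h𝒳 σ e ι hπ β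
  obtain ⟨E, hE⟩ := exists_bcMap_sec σ G hy' hy k β (RingHom.ext h.fnMap_eq)
  letI := (fnMap β).toAlgebra
  let c : secMod σ G y' ≃+ secMod σ G y' :=
    { toFun := fun t => (scal χ (σ.obj y') a).val • t
      invFun := fun t => (scal χ (σ.obj y') a)⁻¹.val • t
      left_inv := fun t => by
        show (scal χ (σ.obj y') a)⁻¹.val • (scal χ (σ.obj y') a).val • t = t
        rw [smul_smul, Units.inv_mul, one_smul]
      right_inv := fun t => by
        show (scal χ (σ.obj y') a).val • (scal χ (σ.obj y') a)⁻¹.val • t = t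
        rw [smul_smul, Units.mul_inv, one_smul]
      map_add' := fun t t' => smul_add _ t t' }
  refine ⟨E.trans c, fun r m => ?_⟩
  rw [twT_eq h𝒳 σ e ι hπ χ G h, AddEquiv.trans_apply, hE]
  exact smul_comm (scal χ (σ.obj y') a).val r _

/-- The datum on values of a section attached to a module on the base. -/
def sectionDatum : PDatum.{u + 1} 𝒳 :=
  { sectionPieces h𝒳 σ e ι hπ with
    M := fun j => secMod σ G j.1
    T := fun {j' j} β => twT h𝒳 σ e ι hπ χ G β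
    T_id := fun j m => twT_id h𝒳 σ e ι hπ χ G m
    T_comp := fun {j'' j' j} β γ m => twT_comp h𝒳 σ e ι hπ χ G β γ m
    bc := fun {j' j} β => exists_bc_twT h𝒳 σ e ι hπ χ G j'.2 j.2 β }

end Groth.L23.TwDesc
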