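import Groth.Agent.L23.TwDesc.Section.Twisted

/-!
# Twisted modules on a gerbe with a section and modules on the base
-/

universe u

open CategoryTheory CategoryTheory.Limits AlgebraicGeometry Opposite TopologicalSpace

set_option backward.isDefEq.respectTransparency false
set_option backward.isDefEq.respectTransparency.types false
set_option linter.style.haveILetI false
set_option linter.unusedSectionVars false
set_option linter.unusedVariables false

noncomputable section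

namespace Groth.L23.TwDesc

open StMod
open Groth.L23.RelGen

variable {S : Scheme.{u}} {X : Over S} {𝒳 : AlgSt.Cat S} (h𝒳 : FibCat.IsFibGrpd 𝒳.p) {π : 𝒳 ⥤ᵇ AlgSt.ofSch X}
  (σ : AlgSt.ofSch X ⥤ᵇ 𝒳) (e : BasedFunctor.comp σ π ≅ BasedFunctor.id (AlgSt.ofSch X))
  {A : (Over S)ᵒᵖ ⥤ GrpCat.{u}} (ι : TwSh.BandHom 𝒳 A)
  (hπ : TwSh.IsBandedGerbe (QuotSh.J Scheme.fppfPrecoverage S) π ι)
  (χ : A ⟶ TwSh.GmPsh S)

/-- Restrictions of twisted modules along decomposed morphisms. -/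
theorem mapTop_split {F : Mod 𝒳} (hF : TwSh.IsTwisted F ι χ 1) {y' y : (AlgSt.ofSch X).obj}
    {β : σ.obj y' ⟶ σ.obj y} {k : y' ⟶ y} {a} (h : IsSplit σ ι β k a) (m : Sec F (σ.obj y)) :
    F.mapTop β m = (scal χ (σ.obj y') a).val • F.mapTop (σ.map k) m := by
  rw [← h, Mod.mapTop_comp, mapTop_band hF]
  rfl

include h𝒳 e hπ in
theorem twQCoh_faithful : ((TwSh.isTwistedQ 𝒳 ι χ 1).ι ⋙ comapQ σ).Faithful := ⟨fun {F F'} u v h => by
  apply InducedCategory.hom_ext
  apply InducedCategory.hom_ext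
  refine (sectionPieces h𝒳 σ e ι hπ).hom_ext F'.obj.property.1 F'.obj.property.2 _ _ fun j m => ?_
  refine (secC σ F'.obj.obj j.1).injective ?_
  refine (secC_app σ u.hom.hom j.1 m).symm.trans (Eq.trans ?_ (secC_app σ v.hom.hom j.1 m))
  have h' := congrArg InducedCategory.Hom.hom h
  exact congrArg (fun t : Mod.comap σ F.obj.obj ⟶ Mod.comap σ F'.obj.obj =>
    (t.app j.1).app ⊤ (secC σ F.obj.obj j.1 m)) h'⟩

include h𝒳 e hπ in
theorem twQCoh_full : ((TwSh.isTwistedQ 𝒳 ι χ 1).ι ⋙ comapQ σ).Full := ⟨fun {F F'} ψ => by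
  let P := sectionPieces h𝒳 σ e ι hπ
  let ψ' : Mod.comap σ F.obj.obj ⟶ Mod.comap σ F'.obj.obj := ψ.hom
  let θ : ∀ j : P.J, Sec F.obj.obj (σ.obj j.1) →ₗ[Fn (σ.obj j.1)] Sec F'.obj.obj (σ.obj j.1) := fun j =>
    { toFun := fun m => (secC σ F'.obj.obj j.1).symm ((ψ'.app j.1).app ⊤ (secC σ F.obj.obj j.1 m))
      map_add' := fun m m' => by rw [map_add, map_add, map_add]
      map_smul' := fun r m => by
        rw [RingHom.id_apply]
        refine (secC σ F'.obj.obj j.1).injective ?_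
        rw [AddEquiv.apply_symm_apply, ← castFn_cY σ j.1 r, secC_smul, secC_smul, AddEquiv.apply_symm_apply,
          Scheme.Modules.Hom.app_smul] }
  obtain ⟨φ, hφ⟩ := P.exists_hom (E := F.obj.obj) F'.obj.property.1 F'.obj.property.2 θ fun j' j β m => by
    obtain ⟨k, a, h⟩ := exists_isSplit h𝒳 σ e ι hπ β
    rw [mapTop_split σ ι χ F.property h, mapTop_split σ ι χ F'.property h]
    refine ((θ j').map_smul (scal χ (σ.obj j'.1) a).val _).trans (congrArg (fun t : Sec F'.obj.obj (σ.obj j'.1) =>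
      (scal χ (σ.obj j'.1) a).val • t) ?_)
    refine (secC σ F'.obj.obj j'.1).injective ?_
    show secC σ F'.obj.obj j'.1 ((secC σ F'.obj.obj j'.1).symm _) = _
    rw [AddEquiv.apply_symm_apply, ← secC_mapTop, ← secC_mapTop, ← Mod.mapTop_app]
    exact congrArg _ ((secC σ F'.obj.obj j.1).apply_symm_apply _).symm
  refine ⟨⟨⟨φ⟩⟩, InducedCategory.hom_ext ?_⟩
  refine (allPieces (fib_ofSch X)).hom_ext ((comapQ σ).obj F'.obj).property.1 ((comapQ σ).obj F'.obj).property.2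
    _ _ fun j m => ?_
  obtain ⟨m', rfl⟩ := (secC σ F.obj.obj j.1).surjective m
  refine (secC_app σ φ j.1 m').trans ?_
  refine (congrArg (secC σ F'.obj.obj j.1) (hφ j m')).trans ?_
  exact (secC σ F'.obj.obj j.1).apply_symm_apply _⟩

include h𝒳 e hπ in
theorem twQCoh_isEquivalence : ((TwSh.isTwistedQ 𝒳 ι χ 1).ι ⋙ comapQ σ).IsEquivalence :=
  { faithful := twQCoh_faithful h𝒳 σ e ι hπ χ
    full := twQCoh_full h𝒳 σ e ι hπ χ
    essSurj := ⟨fun G =>
      ⟨⟨(sectionDatum h𝒳 σ e ι hπ χ G).toQCoh, isTwisted_toQCoh h𝒳 σ e ι hπ χ G⟩,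
        nonempty_comap_toQCoh h𝒳 σ e ι hπ χ G⟩⟩ }

end Groth.L23.TwDesc
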