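import Groth.Agent.L23.TwDesc.Gerbe.Zero

/-!
# Morphisms between values of a section of a gerbe
-/

universe u

open CategoryTheory CategoryTheory.Limits AlgebraicGeometry Opposite TopologicalSpace

set_option backward.isDefEq.respectTransparency false
set_option backward.isDefEq.respectTransparency.types false
set_option linter.style.haveILetI false
set_option linter.unusedSectionVars false
set_option linter.unusedVariables false

noncomputable section

namespace Groth.L23.TwDesc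

open StMod
open Groth.L23.RelGen

variable {S : Scheme.{u}} {X : Over S} {𝒳 : AlgSt.Cat S} (h𝒳 : FibCat.IsFibGrpd 𝒳.p) {π : 𝒳 ⥤ᵇ AlgSt.ofSch X}
  (σ : AlgSt.ofSch X ⥤ᵇ 𝒳) (e : BasedFunctor.comp σ π ≅ BasedFunctor.id (AlgSt.ofSch X))

/-- The categories of schemes are fibred in groupoids. -/
theorem fib_ofSch (X : Over S) : FibCat.IsFibGrpd (AlgSt.ofSch X).p := Stk.isFibGrpd_ofPsh _

include e in
/-- A morphism between values of a section has the same image as a unique morphism of the base. -/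
theorem existsUnique_base {y' y : (AlgSt.ofSch X).obj} (β : σ.obj y' ⟶ σ.obj y) :
    ∃! k : y' ⟶ y, π.map (σ.map k) = π.map β := by
  have nat : ∀ k : y' ⟶ y, π.map (σ.map k) ≫ e.hom.app y = e.hom.app y' ≫ k := fun k =>
    e.hom.toNatTrans.naturality k
  have hinv : ∀ z, e.hom.app z ≫ e.inv.app z = 𝟙 _ := fun z =>
    congrArg (fun t => BasedNatTrans.toNatTrans t |>.app z) e.hom_inv_id
  have hinv' : ∀ z, e.inv.app z ≫ e.hom.app z = 𝟙 _ := fun z =>
    congrArg (fun t => BasedNatTrans.toNatTrans t |>.app z) e.inv_hom_id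
  refine ⟨e.inv.app y' ≫ π.map β ≫ e.hom.app y, ?_, fun k hk => ?_⟩
  · calc π.map (σ.map _) = π.map (σ.map _) ≫ e.hom.app y ≫ e.inv.app y := by rw [hinv]; exact (Category.comp_id _).symm
      _ = e.hom.app y' ≫ (e.inv.app y' ≫ π.map β ≫ e.hom.app y) ≫ e.inv.app y := by
        rw [← Category.assoc, nat, Category.assoc]
      _ = π.map β := by
        rw [Category.assoc, Category.assoc, hinv]
        erw [Category.comp_id]
        rw [← Category.assoc, hinv]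
        exact Category.id_comp _
  · calc k = e.inv.app y' ≫ e.hom.app y' ≫ k := by rw [← Category.assoc, hinv']; exact (Category.id_comp _).symm
      _ = _ := by rw [← nat, hk]

/-- A morphism between values of a section decomposed as a band element and a morphism of the base. -/
def IsSplit {A : (Over S)ᵒᵖ ⥤ GrpCat.{u}} (ι : TwSh.BandHom 𝒳 A) {y' y : (AlgSt.ofSch X).obj}
    (β : σ.obj y' ⟶ σ.obj y) (k : y' ⟶ y) (a : A.obj (op (𝒳.p.obj (σ.obj y')))) : Prop :=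
  (ι.hom (σ.obj y') a).hom.1 ≫ σ.map k = β

variable {A : (Over S)ᵒᵖ ⥤ GrpCat.{u}} (ι : TwSh.BandHom 𝒳 A) {J : GrothendieckTopology (Over S)}
  (hπ : TwSh.IsBandedGerbe J π ι)

include h𝒳 e hπ in
theorem exists_isSplit {y' y : (AlgSt.ofSch X).obj} (β : σ.obj y' ⟶ σ.obj y) :
    ∃ k a, IsSplit σ ι β k a := by
  obtain ⟨k, hk, -⟩ := existsUnique_base σ e β
  obtain ⟨a, ha⟩ := exists_band_factor π h𝒳 (fib_ofSch X) ι (fun x => (hπ.2 x).2.ge) (σ.map k) β hk
  exact ⟨k, a, ha⟩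

include h𝒳 e hπ in
theorem isSplit_unique {y' y : (AlgSt.ofSch X).obj} {β : σ.obj y' ⟶ σ.obj y} {k k' : y' ⟶ y} {a a'}
    (h : IsSplit σ ι β k a) (h' : IsSplit σ ι β k' a') : k = k' ∧ a = a' := by
  have hb : ∀ {k : y' ⟶ y} {a}, IsSplit σ ι β k a → π.map (σ.map k) = π.map β := fun {k a} h => by
    rw [← h, π.toFunctor.map_comp, TwSh.IsBandedGerbe.map_hom_eq_id π hπ, Category.id_comp]
  obtain rfl := (existsUnique_base σ e β).unique (hb h) (hb h')
  refine ⟨rfl, (hπ.2 (σ.obj y')).1 (Aut.ext (Functor.Fiber.hom_ext ?_))⟩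
  exact (RelGen.existsUnique_factor h𝒳 β (σ.map k) (𝟙 _) (by
    rw [← h, Functor.map_comp, TwSh.map_autO_hom])).unique ⟨TwSh.map_autO_hom _ _, h⟩ ⟨TwSh.map_autO_hom _ _, h'⟩

theorem isSplit_map {y' y : (AlgSt.ofSch X).obj} (k : y' ⟶ y) : IsSplit σ ι (σ.map k) k 1 := by
  show (ι.hom (σ.obj y') 1).hom.1 ≫ σ.map k = σ.map k
  rw [map_one]
  exact Category.id_comp _

theorem isSplit_band {y : (AlgSt.ofSch X).obj} (a : A.obj (op (𝒳.p.obj (σ.obj y)))) :
    IsSplit σ ι (ι.hom (σ.obj y) a).hom.1 (𝟙 y) a := by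
  show _ ≫ σ.map (𝟙 y) = _
  rw [σ.toFunctor.map_id]
  exact Category.comp_id _

theorem isSplit_comp {y'' y' y : (AlgSt.ofSch X).obj} {β : σ.obj y'' ⟶ σ.obj y'} {γ : σ.obj y' ⟶ σ.obj y}
    {k : y'' ⟶ y'} {l : y' ⟶ y} {a b} (h : IsSplit σ ι β k a) (h' : IsSplit σ ι γ l b) :
    IsSplit σ ι (β ≫ γ) (k ≫ l) (A.map (𝒳.p.map (σ.map k)).op b * a) := by
  show (ι.hom (σ.obj y'') (A.map (𝒳.p.map (σ.map k)).op b * a)).hom.1 ≫ σ.map (k ≫ l) = β ≫ γ
  rw [map_mul, σ.toFunctor.map_comp]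
  change ((ι.hom (σ.obj y'') a).hom.1 ≫ (ι.hom (σ.obj y'') (A.map (𝒳.p.map (σ.map k)).op b)).hom.1) ≫
    σ.map k ≫ σ.map l = _
  rw [← h, ← h', Category.assoc, Category.assoc, ← Category.assoc _ (σ.map k), ι.natural, Category.assoc]

theorem IsSplit.bmap_eq {y' y : (AlgSt.ofSch X).obj} {β : σ.obj y' ⟶ σ.obj y} {k : y' ⟶ y} {a}
    (h : IsSplit σ ι β k a) : bmap 𝒳 β = bmap 𝒳 (σ.map k) := by
  rw [← h, bmap_comp, TwSh.bmap_autO, Category.id_comp]

theorem IsSplit.fnMap_eq {y' y : (AlgSt.ofSch X).obj} {β : σ.obj y' ⟶ σ.obj y} {k : y' ⟶ y} {a}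
    (h : IsSplit σ ι β k a) (r : Fn (σ.obj y)) : fnMap β r = fnMap (σ.map k) r :=
  congrArg (fun g => g.appTop.hom r) h.bmap_eq

section Scalar

variable (χ : A ⟶ TwSh.GmPsh S)

/-- The scalar by which a band element acts on sections of a twisted module. -/
def scal (x : 𝒳.obj) (a : A.obj (op (𝒳.p.obj x))) : (Fn x)ˣ := (TwSh.charUnit χ x a ^ (1 : ℤ))⁻¹

theorem scal_one (x : 𝒳.obj) : scal χ x 1 = 1 := by
  show (TwSh.charUnit χ x 1 ^ (1 : ℤ))⁻¹ = 1
  rw [zpow_one, TwSh.charUnit, map_one]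
  exact inv_one

theorem scal_mul (x : 𝒳.obj) (a b : A.obj (op (𝒳.p.obj x))) : scal χ x (b * a) = scal χ x a * scal χ x b := by
  show (TwSh.charUnit χ x (b * a) ^ (1 : ℤ))⁻¹ = (TwSh.charUnit χ x a ^ (1 : ℤ))⁻¹ * (TwSh.charUnit χ x b ^ (1 : ℤ))⁻¹
  rw [zpow_one, zpow_one, zpow_one, TwSh.charUnit, map_mul]
  exact mul_inv_rev _ _

theorem scal_map {x' x : 𝒳.obj} (φ : x' ⟶ x) (a : A.obj (op (𝒳.p.obj x))) :
    (scal χ x' (A.map (𝒳.p.map φ).op a)).val = fnMap φ (scal χ x a).val := by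
  have h : TwSh.charUnit χ x' (A.map (𝒳.p.map φ).op a) = Units.map (fnMap φ).toMonoidHom (TwSh.charUnit χ x a) :=
    ConcreteCategory.congr_hom (χ.naturality (𝒳.p.map φ).op) a
  show ((TwSh.charUnit χ x' (A.map (𝒳.p.map φ).op a) ^ (1 : ℤ))⁻¹).val = fnMap φ _
  rw [h, zpow_one, scal, zpow_one]
  rfl

end Scalar

end Groth.L23.TwDesc
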