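import Groth.Agent.L23.TwDesc.Section.Datum
import Groth.Agent.L23.TwDesc.Gerbe.Main

/-!
# The twisted module attached to a module on the base
-/

universe u

open CategoryTheory CategoryTheory.Limits AlgebraicGeometry Opposite TopologicalSpace

set_option backward.isDefEq.respectTransparency false
set_option backward.isDefEq.respectTransparency.types false
set_option linter.style.haveILetI false
set_option linter.unusedSectionVars false
set_option linter.unusedVariables false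

noncomputable section

namespace Groth.L23.TwDesc

open StMod
open Groth.L23.RelGen

variable {S : Scheme.{u}} {X : Over S} {𝒳 : AlgSt.Cat S} (h𝒳 : FibCat.IsFibGrpd 𝒳.p) {π : 𝒳 ⥤ᵇ AlgSt.ofSch X}
  (σ : AlgSt.ofSch X ⥤ᵇ 𝒳) (e : BasedFunctor.comp σ π ≅ BasedFunctor.id (AlgSt.ofSch X))
  {A : (Over S)ᵒᵖ ⥤ GrpCat.{u}} (ι : TwSh.BandHom 𝒳 A)
  (hπ : TwSh.IsBandedGerbe (QuotSh.J Scheme.fppfPrecoverage S) π ι)
  (χ : A ⟶ TwSh.GmPsh S) (G : QCoh (AlgSt.ofSch X))

set_option maxHeartbeats 800000 in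
theorem isTwisted_toQCoh : TwSh.IsTwisted (sectionDatum h𝒳 σ e ι hπ χ G).toQCoh.obj ι χ 1 := by
  intro x a U s
  let D := sectionDatum h𝒳 σ e ι hπ χ G
  refine (D.secFam x U).injective ?_
  refine (D.secFam_mapHom (ι.hom x a).hom.1 (TwSh.bmap_autO x _) U s).trans ?_
  refine Eq.trans ?_ ((D.secFam x U).map_smul _ _).symm
  refine PDatum.fam_ext fun j α hα => ?_
  have hn : (ι.hom (σ.obj j.1) (A.map (𝒳.p.map α).op a)).hom.1 ≫ α = α ≫ (ι.hom x a).hom.1 := ι.natural α a
  have h₀ := D.ev_map (D.secFam x U s) (j' := j) (j := j)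
    (ι.hom (σ.obj j.1) (A.map (𝒳.p.map α).op a)).hom.1 (α := α) (α' := α ≫ (ι.hom x a).hom.1) hn hα
    (PDatum.le_of_comp _ (TwSh.bmap_autO x _) α hα)
  refine h₀.symm.trans ?_
  refine (twT_band h𝒳 σ e ι hπ χ G (A.map (𝒳.p.map α).op a) _).trans ?_
  refine (congrArg (fun r : Fn (σ.obj j.1) => r • (show secMod σ G j.1 from PDatum.ev (D.secFam x U s) α hα)) ?_).trans
    (PDatum.ev_smul (D := D) _ _ α hα).symm
  refine (scal_map χ α a).trans ?_
  show (bmap 𝒳 α).appTop _ = ((sch 𝒳 x).presheaf.map (homOfLE le_top).op ≫ (bmap 𝒳 α).appLE U ⊤ hα) _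
  rw [Scheme.Hom.map_appLE, show (bmap 𝒳 α).appTop = (bmap 𝒳 α).appLE ⊤ ⊤ le_top from
    Scheme.Hom.app_eq_appLE (bmap 𝒳 α) (U := ⊤)]
  rfl

set_option maxHeartbeats 800000 in
theorem nonempty_comap_toQCoh :
    Nonempty ((comapQ σ).obj (sectionDatum h𝒳 σ e ι hπ χ G).toQCoh ≅ G) := by
  let D := sectionDatum h𝒳 σ e ι hπ χ G
  have hb : ∀ j : D.J, Function.Bijective (D.evG (𝟙 (D.o j))) := fun j => PDatum.evG_id_bijective j
  let θ : ∀ j : (allPieces (fib_ofSch X)).J,
      Sec ((comapQ σ).obj D.toQCoh).obj j.1 ≃ₗ[Fn j.1] Sec G.obj j.1 := fun j =>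
    LinearEquiv.ofBijective
      { toFun := fun m => (show Sec G.obj j.1 from D.evG (j := j) (𝟙 (σ.obj j.1)) ((secC σ D.toMod j.1).symm m))
        map_add' := fun m m' => by
          show D.evG (j := j) (𝟙 (σ.obj j.1)) ((secC σ D.toMod j.1).symm (m + m')) = _
          rw [map_add, PDatum.evG_add]
        map_smul' := fun r m => by
          show D.evG (j := j) (𝟙 (σ.obj j.1)) ((secC σ D.toMod j.1).symm (r • m)) = _
          rw [secC_symm_smul, PDatum.evG_smul]
          have h : cY σ j.1 (fnMap (𝟙 (σ.obj j.1)) (castFn (sch_obj_eq σ j.1) r)) = r := by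
            rw [fnMap, bmap_id, Scheme.Hom.id_appTop]
            exact cY_castFn σ j.1 r
          exact (secMod_smul σ G j.1 _ _).trans
            (congrArg (fun a : Fn j.1 => a • (show Sec G.obj j.1 from
              D.evG (j := j) (𝟙 (σ.obj j.1)) ((secC σ D.toMod j.1).symm m))) h) }
      ((hb j).comp (secC σ D.toMod j.1).symm.bijective)
  refine (allPieces (fib_ofSch X)).nonempty_iso ((comapQ σ).obj D.toQCoh) G θ fun j' j β m => ?_
  show D.evG (j := j') (𝟙 (σ.obj j'.1)) ((secC σ D.toMod j'.1).symm ((Mod.comap σ D.toMod).mapTop β m)) =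
    G.obj.mapTop β (show Sec G.obj j.1 from D.evG (j := j) (𝟙 (σ.obj j.1)) ((secC σ D.toMod j.1).symm m))
  rw [secC_symm_mapTop, PDatum.evG_mapTop]
  refine (PDatum.evG_map (D := D) (j' := j') (j := j) (σ.map β) (α := 𝟙 (σ.obj j.1))
    ((Category.comp_id _).trans (Category.id_comp _).symm) _).symm.trans ?_
  exact twT_map h𝒳 σ e ι hπ χ G β _

end Groth.L23.TwDesc
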